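import Cfsg.Agent.Helper18.InvOdd.G2D
import Cfsg.Agent.Helper18.InvOdd.CentDecomp
import Cfsg.Agent.S2401

/-!
helper40, S2371 (a self-centralizing cyclic subgroup of order `q² + q + 1` of `G₂(q)`): the homomorphism
`rho : SL₃(K) →* GL chevG2.Idx K` onto the long-root subgroup of the Chevalley group `G₂(K)` (finite `K`), built from
the Steinberg presentation of `SL₃(K)` (S2401) and the commutator formula (S1025) for the six long roots.
-/

set_option autoImplicit false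
set_option maxRecDepth 100000

namespace Cfsg.Agent.Helper40.G2Tor

open Cfsg Cfsg.Lie Cfsg.Agent.Helper18 Cfsg.Agent.Helper18.G2Odd

/-- `SL₃` -/
abbrev SL3 (K : Type*) [Field K] := Matrix.SpecialLinearGroup (Fin 3) K

/-- the off-diagonal positions -/
abbrev OffD := {ij : Fin 3 × Fin 3 // ij.1 ≠ ij.2}

/-- the index of the long root of `G₂` attached to the matrix unit `E_ij`:
`E₁₂ ↦ b = 6`, `E₂₃ ↦ 3a+b = 10`, `E₁₃ ↦ 3a+2b = 11`, `E₂₁ ↦ 5`, `E₃₂ ↦ 1`, `E₃₁ ↦ 0` (and `12` on the diagonal). -/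
def idx (i j : Fin 3) : ℕ := (([[12, 6, 11], [5, 12, 10], [0, 1, 12]] : List (List ℕ)).getD i.val []).getD j.val 12

theorem idx_lt (i j : Fin 3) (h : i ≠ j) : idx i j < 12 := by
  revert i j; decide

section
variable {K : Type*} [Field K]

theorem h25 : CommHyp chevG2 K :=
  fun r s hr hs h1 h2 t u => Cfsg.Agent.S1025.result chevG2 hG2 r s hr hs h1 h2 t u

/-- long root elements whose roots do not add up to a root commute -/
theorem X_comm_long (r s : ℕ)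
    (h : (r, s) ∈ [(6, 11), (6, 1), (10, 11), (10, 5), (11, 6), (11, 10), (5, 0), (5, 10), (1, 0), (1, 6), (0, 5), (0, 1)])
    (t u : K) : X r t * X s u = X s u * X r t := by
  have hr12 : r < chevG2.nroots := by
    simp only [List.mem_cons, Prod.mk.injEq, List.not_mem_nil, or_false] at h
    rcases h with ⟨rfl, -⟩ | ⟨rfl, -⟩ | ⟨rfl, -⟩ | ⟨rfl, -⟩ | ⟨rfl, -⟩ | ⟨rfl, -⟩ | ⟨rfl, -⟩ | ⟨rfl, -⟩ | ⟨rfl, -⟩ |
      ⟨rfl, -⟩ | ⟨rfl, -⟩ | ⟨rfl, -⟩ <;> decide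
  have hs12 : s < chevG2.nroots := by
    simp only [List.mem_cons, Prod.mk.injEq, List.not_mem_nil, or_false] at h
    rcases h with ⟨-, rfl⟩ | ⟨-, rfl⟩ | ⟨-, rfl⟩ | ⟨-, rfl⟩ | ⟨-, rfl⟩ | ⟨-, rfl⟩ | ⟨-, rfl⟩ | ⟨-, rfl⟩ | ⟨-, rfl⟩ |
      ⟨-, rfl⟩ | ⟨-, rfl⟩ | ⟨-, rfl⟩ <;> decide
  have h1 : s ≠ r := by
    simp only [List.mem_cons, Prod.mk.injEq, List.not_mem_nil, or_false] at h
    rcases h with ⟨rfl, rfl⟩ | ⟨rfl, rfl⟩ | ⟨rfl, rfl⟩ | ⟨rfl, rfl⟩ | ⟨rfl, rfl⟩ | ⟨rfl, rfl⟩ | ⟨rfl, rfl⟩ | ⟨rfl, rfl⟩ |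
      ⟨rfl, rfl⟩ | ⟨rfl, rfl⟩ | ⟨rfl, rfl⟩ | ⟨rfl, rfl⟩ <;> decide
  have h2 : s ≠ chevG2.neg r := by
    simp only [List.mem_cons, Prod.mk.injEq, List.not_mem_nil, or_false] at h
    rcases h with ⟨rfl, rfl⟩ | ⟨rfl, rfl⟩ | ⟨rfl, rfl⟩ | ⟨rfl, rfl⟩ | ⟨rfl, rfl⟩ | ⟨rfl, rfl⟩ | ⟨rfl, rfl⟩ | ⟨rfl, rfl⟩ |
      ⟨rfl, rfl⟩ | ⟨rfl, rfl⟩ | ⟨rfl, rfl⟩ | ⟨rfl, rfl⟩ <;> decide
  have h3 := comm_xGL chevG2 hG2 h25 r s hr12 hs12 h1 h2 t u
  have h4 : chevG2.commWord K r s t u = [] := by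
    have : chevG2.commTerms r s = [] := by
      simp only [List.mem_cons, Prod.mk.injEq, List.not_mem_nil, or_false] at h
      rcases h with ⟨rfl, rfl⟩ | ⟨rfl, rfl⟩ | ⟨rfl, rfl⟩ | ⟨rfl, rfl⟩ | ⟨rfl, rfl⟩ | ⟨rfl, rfl⟩ | ⟨rfl, rfl⟩ | ⟨rfl, rfl⟩ |
        ⟨rfl, rfl⟩ | ⟨rfl, rfl⟩ | ⟨rfl, rfl⟩ | ⟨rfl, rfl⟩ <;> decide +kernel
    unfold ChevalleyDatum.commWord
    rw [this]; rfl
  rw [h4] at h3
  have h5 : wordGL chevG2 K ([] : List (ℕ × K)) = 1 := by simp [wordGL]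
  rw [h5, mul_one] at h3
  unfold X
  calc xGL chevG2 K r t * xGL chevG2 K s u
      = xGL chevG2 K r t * ((xGL chevG2 K r t)⁻¹ * xGL chevG2 K s u * xGL chevG2 K r t) := by rw [h3]
    _ = xGL chevG2 K s u * xGL chevG2 K r t := by group

/-- the Steinberg relation `[x_ij(t), x_jl(u)] = x_il(tu)` on the long roots of `G₂` (all signs `+`) -/
theorem X_mul_long (r s v : ℕ)
    (h : (r, s, v) ∈ [(6, 10, 11), (11, 1, 6), (5, 11, 10), (10, 0, 5), (0, 6, 1), (1, 5, 0)]) (t u : K) :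
    X r t * X s u * (X r t)⁻¹ * (X s u)⁻¹ = X v (t * u) := by
  have hr12 : r < chevG2.nroots := by
    simp only [List.mem_cons, Prod.mk.injEq, List.not_mem_nil, or_false] at h
    rcases h with ⟨rfl, -⟩ | ⟨rfl, -⟩ | ⟨rfl, -⟩ | ⟨rfl, -⟩ | ⟨rfl, -⟩ | ⟨rfl, -⟩ <;> decide
  have hs12 : s < chevG2.nroots := by
    simp only [List.mem_cons, Prod.mk.injEq, List.not_mem_nil, or_false] at h
    rcases h with ⟨-, rfl, -⟩ | ⟨-, rfl, -⟩ | ⟨-, rfl, -⟩ | ⟨-, rfl, -⟩ | ⟨-, rfl, -⟩ | ⟨-, rfl, -⟩ <;> decide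
  have h1 : s ≠ r := by
    simp only [List.mem_cons, Prod.mk.injEq, List.not_mem_nil, or_false] at h
    rcases h with ⟨rfl, rfl, -⟩ | ⟨rfl, rfl, -⟩ | ⟨rfl, rfl, -⟩ | ⟨rfl, rfl, -⟩ | ⟨rfl, rfl, -⟩ | ⟨rfl, rfl, -⟩ <;> decide
  have h2 : s ≠ chevG2.neg r := by
    simp only [List.mem_cons, Prod.mk.injEq, List.not_mem_nil, or_false] at h
    rcases h with ⟨rfl, rfl, -⟩ | ⟨rfl, rfl, -⟩ | ⟨rfl, rfl, -⟩ | ⟨rfl, rfl, -⟩ | ⟨rfl, rfl, -⟩ | ⟨rfl, rfl, -⟩ <;> decide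
  have h3 := comm_xGL chevG2 hG2 h25 r s hr12 hs12 h1 h2 (-t) u
  have h4 : chevG2.commWord K r s (-t) u = [(v, t * u)] := by
    have : chevG2.commTerms r s = [(v, 1, 1, 1)] := by
      simp only [List.mem_cons, Prod.mk.injEq, List.not_mem_nil, or_false] at h
      rcases h with ⟨rfl, rfl, rfl⟩ | ⟨rfl, rfl, rfl⟩ | ⟨rfl, rfl, rfl⟩ | ⟨rfl, rfl, rfl⟩ | ⟨rfl, rfl, rfl⟩ |
        ⟨rfl, rfl, rfl⟩ <;> decide +kernel
    unfold ChevalleyDatum.commWord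
    rw [this]
    simp
  rw [h4] at h3
  have h5 : wordGL chevG2 K [(v, t * u)] = X v (t * u) := by simp [wordGL, X]
  rw [h5] at h3
  have h6 : (xGL chevG2 K r (-t))⁻¹ = X r t := by
    have := X_neg (F := K) r (-t)
    rw [neg_neg] at this
    unfold X at this ⊢
    rw [this]
  rw [h6] at h3
  have h7 : xGL chevG2 K r (-t) = (X r t)⁻¹ := by
    have := X_neg (F := K) r t
    unfold X at this ⊢
    exact this
  rw [h7] at h3
  have hsv : X s u * X v (t * u) = X v (t * u) * X s u := by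
    apply X_comm_long
    simp only [List.mem_cons, Prod.mk.injEq, List.not_mem_nil, or_false] at h
    rcases h with ⟨rfl, rfl, rfl⟩ | ⟨rfl, rfl, rfl⟩ | ⟨rfl, rfl, rfl⟩ | ⟨rfl, rfl, rfl⟩ | ⟨rfl, rfl, rfl⟩ |
      ⟨rfl, rfl, rfl⟩ <;> decide
  have h8 : X r t * X s u * (X r t)⁻¹ = X s u * X v (t * u) := by
    unfold X at h3 ⊢
    exact h3
  rw [h8, hsv, mul_inv_cancel_right]

/-- the Steinberg relators of `SL₃(K)` (verbatim the relator set of S2401 for `n = 3`) -/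
def rels3 (K : Type*) [Field K] : Set (FreeGroup (OffD × K)) :=
  {g : FreeGroup ({ij : Fin 3 × Fin 3 // ij.1 ≠ ij.2} × K) | ∃ (a : {ij : Fin 3 × Fin 3 // ij.1 ≠ ij.2}) (t u : K),
      g = FreeGroup.of (a, t) * FreeGroup.of (a, u) * (FreeGroup.of (a, t + u))⁻¹} ∪
    {g | ∃ (a b : {ij : Fin 3 × Fin 3 // ij.1 ≠ ij.2}) (t u : K), a.1.1 ≠ b.1.2 ∧ a.1.2 ≠ b.1.1 ∧
      g = FreeGroup.of (a, t) * FreeGroup.of (b, u) * (FreeGroup.of (a, t))⁻¹ * (FreeGroup.of (b, u))⁻¹} ∪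
    {g | ∃ (a b : {ij : Fin 3 × Fin 3 // ij.1 ≠ ij.2}) (h : a.1.1 ≠ b.1.2) (t u : K), a.1.2 = b.1.1 ∧
      g = FreeGroup.of (a, t) * FreeGroup.of (b, u) * (FreeGroup.of (a, t))⁻¹ * (FreeGroup.of (b, u))⁻¹ *
        (FreeGroup.of (⟨(a.1.1, b.1.2), h⟩, t * u))⁻¹}

/-- the images of the Steinberg generators -/
noncomputable def fGen (K : Type*) [Field K] : OffD × K → GL chevG2.Idx K := fun p => X (idx p.1.1.1 p.1.1.2) p.2

theorem comm_pairs' : ∀ i j k l : Fin 3, i ≠ j → k ≠ l → i ≠ l → j ≠ k →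
    (i = k ∧ j = l) ∨ (idx i j, idx k l) ∈
      [(6, 11), (6, 1), (10, 11), (10, 5), (11, 6), (11, 10), (5, 0), (5, 10), (1, 0), (1, 6), (0, 5), (0, 1)] := by
  decide

theorem comm_pairs (a b : OffD) (h1 : a.1.1 ≠ b.1.2) (h2 : a.1.2 ≠ b.1.1) :
    a = b ∨ (idx a.1.1 a.1.2, idx b.1.1 b.1.2) ∈
      [(6, 11), (6, 1), (10, 11), (10, 5), (11, 6), (11, 10), (5, 0), (5, 10), (1, 0), (1, 6), (0, 5), (0, 1)] := by
  obtain ⟨⟨i, j⟩, hij⟩ := a
  obtain ⟨⟨k, l⟩, hkl⟩ := b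
  rcases comm_pairs' i j k l hij hkl h1 h2 with ⟨rfl, rfl⟩ | h
  · left; rfl
  · right; exact h

theorem mul_triples' : ∀ i j k l : Fin 3, i ≠ j → k ≠ l → i ≠ l → j = k →
    (idx i j, idx k l, idx i l) ∈
      [(6, 10, 11), (11, 1, 6), (5, 11, 10), (10, 0, 5), (0, 6, 1), (1, 5, 0)] := by
  decide

theorem mul_triples (a b : OffD) (h1 : a.1.1 ≠ b.1.2) (h2 : a.1.2 = b.1.1) :
    (idx a.1.1 a.1.2, idx b.1.1 b.1.2, idx a.1.1 b.1.2) ∈
      [(6, 10, 11), (11, 1, 6), (5, 11, 10), (10, 0, 5), (0, 6, 1), (1, 5, 0)] := by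
  obtain ⟨⟨i, j⟩, hij⟩ := a
  obtain ⟨⟨k, l⟩, hkl⟩ := b
  exact mul_triples' i j k l hij hkl h1 h2

theorem lift_rels : ∀ r ∈ rels3 K, FreeGroup.lift (fGen K) r = 1 := by
  rintro r ((⟨a, t, u, rfl⟩ | ⟨a, b, t, u, h1, h2, rfl⟩) | ⟨a, b, h1, t, u, h2, rfl⟩)
  · simp only [map_mul, map_inv, FreeGroup.lift_apply_of, fGen]
    rw [X_add, mul_inv_cancel]
  · simp only [map_mul, map_inv, FreeGroup.lift_apply_of, fGen]
    rcases comm_pairs a b h1 h2 with rfl | h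
    · have : X (idx a.1.1 a.1.2) t * X (idx a.1.1 a.1.2) u = X (idx a.1.1 a.1.2) u * X (idx a.1.1 a.1.2) t := by
        rw [← X_add, ← X_add, add_comm]
      rw [this]
      group
    · rw [X_comm_long _ _ h t u]
      group
  · simp only [map_mul, map_inv, FreeGroup.lift_apply_of, fGen]
    rw [X_mul_long _ _ _ (mul_triples a b h1 h2) t u, mul_inv_cancel]

end

section
variable (K : Type*) [Field K] [Finite K]

/-- the Steinberg presentation of `SL₃(K)` (S2401) -/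
noncomputable def pres : PresentedGroup (rels3 K) ≃* SL3 K :=
  Classical.choose (Cfsg.Agent.S2401.result (K := K) 3 le_rfl)

theorem pres_of (a : OffD) (t : K) :
    ((pres K (PresentedGroup.of (a, t)) : SL3 K) : Matrix (Fin 3) (Fin 3) K) = Matrix.transvection a.1.1 a.1.2 t :=
  Classical.choose_spec (Cfsg.Agent.S2401.result (K := K) 3 le_rfl) a t

/-- the transvection `1 + t E_ij` as an element of `SL₃(K)` -/
noncomputable def tv (i j : Fin 3) (h : i ≠ j) (t : K) : SL3 K :=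
  ⟨Matrix.transvection i j t, Matrix.det_transvection_of_ne i j h t⟩

variable {K}

theorem pres_of' (i j : Fin 3) (h : i ≠ j) (t : K) : pres K (PresentedGroup.of (⟨(i, j), h⟩, t)) = tv K i j h t :=
  Subtype.ext (pres_of K ⟨(i, j), h⟩ t)

variable (K)

/-- **the long-root `SL₃` of `G₂(K)`**: `1 + t E_ij ↦ x_{idx i j}(t)` -/
noncomputable def rho : SL3 K →* GL chevG2.Idx K :=
  (PresentedGroup.toGroup (lift_rels (K := K))).comp (pres K).symm.toMonoidHom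

variable {K}

theorem rho_tv (i j : Fin 3) (h : i ≠ j) (t : K) : rho K (tv K i j h t) = X (idx i j) t := by
  unfold rho
  rw [MonoidHom.comp_apply, ← pres_of' i j h t]
  simp only [MulEquiv.coe_toMonoidHom, MulEquiv.symm_apply_apply]
  rw [PresentedGroup.toGroup.of]
  rfl

/-- two homomorphisms out of `SL₃(K)` that agree on the transvections are equal -/
theorem hom_ext_tv {G : Type*} [Group G] (f g : SL3 K →* G)
    (h : ∀ (i j : Fin 3) (hij : i ≠ j) (t : K), f (tv K i j hij t) = g (tv K i j hij t)) : f = g := by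
  have key : f.comp (pres K).toMonoidHom = g.comp (pres K).toMonoidHom := by
    apply PresentedGroup.ext
    rintro ⟨⟨⟨i, j⟩, hij⟩, t⟩
    simp only [MonoidHom.comp_apply, MulEquiv.coe_toMonoidHom]
    rw [pres_of' i j hij t]
    exact h i j hij t
  ext A
  have := DFunLike.congr_fun key ((pres K).symm A)
  simpa using this

/-- the image of `rho` lies in the Chevalley group -/
theorem rho_mem_group (A : SL3 K) : rho K A ∈ chevG2.group K := by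
  unfold rho
  rw [MonoidHom.comp_apply]
  generalize (pres K).symm.toMonoidHom A = x
  have hx : x ∈ Subgroup.closure (Set.range (PresentedGroup.of : OffD × K → PresentedGroup (rels3 K))) := by
    rw [PresentedGroup.closure_range_of]; trivial
  induction hx using Subgroup.closure_induction with
  | mem y hy =>
    obtain ⟨p, rfl⟩ := hy
    rw [PresentedGroup.toGroup.of]
    exact X_mem_group _ _
  | one => rw [map_one]; exact one_mem _
  | mul a b _ _ ha hb => rw [map_mul]; exact mul_mem ha hb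
  | inv a _ ha => rw [map_inv]; exact inv_mem ha

end

/-- the diagonal matrix `diag(a, b, (ab)⁻¹)` of `SL₃(K)` -/
noncomputable def dg {K : Type*} [Field K] (a b : Kˣ) : SL3 K :=
  ⟨Matrix.diagonal ![(a : K), (b : K), ((a * b)⁻¹ : Kˣ)], by
    rw [Matrix.det_diagonal, Fin.prod_univ_three]
    simp only [Matrix.cons_val_zero, Matrix.cons_val_one, Matrix.cons_val_two, Matrix.head_cons, Matrix.tail_cons]
    rw [← Units.val_mul, ← Units.val_mul, mul_inv_cancel, Units.val_one]⟩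

/-- the exponent of `lam` in the value of the root `s` on the torus element `tor (lam ^ (1 + q)) (lam ^ (2 + q))`:
`E = [-q-2, -2q-1, -q-1, -1, -q, q-1, 1-q, q, 1, q+1, 2q+1, q+2]` -/
def E (q : ℤ) (s : ℕ) : ℤ := (1 + q) * chevG2.cartan 0 s + (2 + q) * chevG2.cartan 1 s

end Cfsg.Agent.Helper40.G2Tor
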