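import Cfsg.Agent.Helper40.G2Tor.Defs

set_option autoImplicit false
set_option maxRecDepth 100000

namespace Cfsg.Agent.Helper40.G2Tor.Dist

open Cfsg Cfsg.Lie Cfsg.Agent.Helper18 Cfsg.Agent.Helper18.G2Odd Cfsg.Agent.Helper40.G2Tor

/-- coefficient of `1` in `E q s` -/
def Ea : ℕ → ℤ
  | 0 => -2 | 1 => -1 | 2 => -1 | 3 => -1 | 4 => 0 | 5 => -1
  | 6 => 1 | 7 => 0 | 8 => 1 | 9 => 1 | 10 => 1 | 11 => 2 | _ => 0

/-- coefficient of `q` in `E q s` -/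
def Eb : ℕ → ℤ
  | 0 => -1 | 1 => -2 | 2 => -1 | 3 => 0 | 4 => -1 | 5 => 1
  | 6 => -1 | 7 => 1 | 8 => 0 | 9 => 1 | 10 => 2 | 11 => 1 | _ => 0

theorem cartan_tab (s : ℕ) (hs : s < 12) :
    chevG2.cartan 0 s + 2 * chevG2.cartan 1 s = Ea s ∧
    chevG2.cartan 0 s + chevG2.cartan 1 s = Eb s := by
  interval_cases s <;> decide

theorem E_tab (q : ℤ) (s : ℕ) (hs : s < 12) : E q s = Ea s + Eb s * q := by
  obtain ⟨h1, h2⟩ := cartan_tab s hs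
  unfold E; rw [← h1, ← h2]; ring

theorem tab_pair (s s' : ℕ) (hs : s < 12) (hs' : s' < 12) (hne : s ≠ s') :
    (Eb s - Eb s' = 0 ∧ Ea s - Ea s' ≠ 0 ∧ |Ea s - Ea s'| ≤ 4) ∨
    (Eb s - Eb s' ≠ 0 ∧ |Ea s - Ea s'| < 4 * |Eb s - Eb s'| ∧ |Eb s - Eb s'| ≤ 4 ∧
      |Ea s - Ea s'| ≤ 4) := by
  interval_cases s <;> interval_cases s' <;> first | (exact absurd rfl hne) | decide

theorem tab_pair3 (s s' : ℕ) (hs : s < 12) (hs' : s' < 12) (hne : s ≠ s') :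
    ¬ (13 : ℤ) ∣ (Ea s - Ea s') + (Eb s - Eb s') * 3 := by
  interval_cases s <;> interval_cases s' <;> first | (exact absurd rfl hne) | decide

/-- no nonzero `a + b q` with small coefficients is divisible by `q² + q + 1`, `q ≥ 4` -/
theorem small_not_dvd (q : ℤ) (hq : 4 ≤ q) (a b : ℤ) (ha : |a| ≤ 4) (hb : |b| ≤ 4)
    (h : (b = 0 ∧ a ≠ 0) ∨ (b ≠ 0 ∧ |a| < 4 * |b|)) : ¬ (q ^ 2 + q + 1) ∣ a + b * q := by
  intro hd
  have hne : a + b * q ≠ 0 := by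
    rcases h with ⟨hb0, ha0⟩ | ⟨hb0, hab⟩
    · rw [hb0]; simpa using ha0
    · intro h0
      have : a = -(b * q) := by linarith
      have h1 : |a| = |b| * q := by
        rw [this, abs_neg, abs_mul, abs_of_nonneg (by linarith : (0:ℤ) ≤ q)]
      have hbpos : 0 < |b| := abs_pos.mpr hb0
      nlinarith
  have hle : q ^ 2 + q + 1 ≤ |a + b * q| := by
    have := Int.le_of_dvd (abs_pos.mpr hne) ((dvd_abs _ _).mpr hd)
    exact this
  have hub : |a + b * q| ≤ 4 + 4 * q := by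
    calc |a + b * q| ≤ |a| + |b * q| := abs_add_le _ _
      _ = |a| + |b| * q := by rw [abs_mul, abs_of_nonneg (by linarith : (0:ℤ) ≤ q)]
      _ ≤ 4 + 4 * q := by nlinarith [abs_nonneg b]
  nlinarith

/-- (DIST-A) -/
theorem E_inj (q : ℕ) (hq : 3 ≤ q) (s s' : ℕ) (hs : s < 12) (hs' : s' < 12)
    (h : ((q : ℤ) ^ 2 + q + 1) ∣ E q s - E q s') : s = s' := by
  by_contra hne
  rw [E_tab _ s hs, E_tab _ s' hs'] at h
  have h' : ((q : ℤ) ^ 2 + q + 1) ∣ (Ea s - Ea s') + (Eb s - Eb s') * q := by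
    have e : (Ea s - Ea s') + (Eb s - Eb s') * (q : ℤ) = Ea s + Eb s * q - (Ea s' + Eb s' * q) := by
      ring
    rw [e]; exact h
  rcases Nat.lt_or_ge q 4 with h4 | h4
  · have hq3 : q = 3 := by omega
    subst hq3
    exact tab_pair3 s s' hs hs' hne (by simpa using h')
  · have hq4 : (4 : ℤ) ≤ q := by exact_mod_cast h4
    rcases tab_pair s s' hs hs' hne with ⟨hb0, ha0, ha⟩ | ⟨hb0, hab, hb, ha⟩
    · exact small_not_dvd q hq4 _ _ ha (by rw [hb0]; simp) (Or.inl ⟨hb0, ha0⟩) h'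
    · exact small_not_dvd q hq4 _ _ ha hb (Or.inr ⟨hb0, hab⟩) h'

theorem tab_one (s : ℕ) (hs : s < 12) :
    (Eb s = 0 ∧ Ea s ≠ 0 ∧ |Ea s| ≤ 4) ∨
    (Eb s ≠ 0 ∧ |Ea s| < 4 * |Eb s| ∧ |Eb s| ≤ 4 ∧ |Ea s| ≤ 4) := by
  interval_cases s <;> decide

theorem tab_one3 (s : ℕ) (hs : s < 12) : ¬ (13 : ℤ) ∣ Ea s + Eb s * 3 := by
  interval_cases s <;> decide

/-- (DIST-B) -/
theorem E_ne (q : ℕ) (hq : 3 ≤ q) (s : ℕ) (hs : s < 12) : ¬ ((q : ℤ) ^ 2 + q + 1) ∣ E q s := by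
  intro h
  rw [E_tab _ s hs] at h
  rcases Nat.lt_or_ge q 4 with h4 | h4
  · have hq3 : q = 3 := by omega
    subst hq3
    exact tab_one3 s hs (by simpa using h)
  · have hq4 : (4 : ℤ) ≤ q := by exact_mod_cast h4
    rcases tab_one s hs with ⟨hb0, ha0, ha⟩ | ⟨hb0, hab, hb, ha⟩
    · exact small_not_dvd q hq4 _ _ ha (by rw [hb0]; simp) (Or.inl ⟨hb0, ha0⟩) h
    · exact small_not_dvd q hq4 _ _ ha hb (Or.inr ⟨hb0, hab⟩) h

/-- (DIST-C) -/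
theorem chr_lam {K : Type*} [Field K] (lam : Kˣ) (q : ℕ) (s : ℕ) :
    chr s (lam ^ (1 + q)) (lam ^ (2 + q)) = lam ^ E q s := by
  unfold chr E
  rw [← zpow_natCast lam (1 + q), ← zpow_natCast lam (2 + q), ← zpow_mul, ← zpow_mul, ← zpow_add]
  congr 1

end Cfsg.Agent.Helper40.G2Tor.Dist
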