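import Cfsg.Agent.Helper40.G2Tor.Defs
import Cfsg.Agent.Helper48.G2TorKEX
import Cfsg.Agent.Helper48.G2TorTW
import Cfsg.Agent.Helper70.G2TorEXT
import Cfsg.Agent.Helper70.G2TorDIAG
import Cfsg.Agent.Helper9.G2TorSING
import Cfsg.Agent.Helper55.G2TorCK
import Cfsg.Agent.Helper55.G2TorTORV
import Cfsg.Agent.Helper40.G2Tor.Dist

/-!
helper40, S2371: assembly.
-/

set_option autoImplicit false
set_option maxRecDepth 100000

namespace Cfsg.Agent.Helper40.G2Tor

open Cfsg Cfsg.Lie Cfsg.Agent.Helper18 Cfsg.Agent.Helper18.G2Odd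
open Cfsg.Agent.Helper48.G2Tor Cfsg.Agent.Helper70.G2Tor Cfsg.Agent.Helper9.G2Tor Cfsg.Agent.Helper55.G2Tor Cfsg.Agent.Helper40.G2Tor.Dist

section
variable {K : Type*} [Field K]

theorem cast_n (q : ℕ) : ((q ^ 2 + q + 1 : ℕ) : ℤ) = (q : ℤ) ^ 2 + q + 1 := by push_cast; ring

/-- the twelve root values are distinct -/
theorem reg_inj (q : ℕ) (hq : 3 ≤ q) (lam : Kˣ) (hlam : orderOf lam = q ^ 2 + q + 1) :
    ∀ s < 12, ∀ s' < 12, chr s (lam ^ (1 + q)) (lam ^ (2 + q)) = chr s' (lam ^ (1 + q)) (lam ^ (2 + q)) → s = s' := by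
  intro s hs s' hs' h
  rw [chr_lam, chr_lam] at h
  have h1 : lam ^ (E q s - E q s') = 1 := by
    rw [zpow_sub, h, mul_inv_cancel]
  rw [← orderOf_dvd_iff_zpow_eq_one, hlam, cast_n] at h1
  exact E_inj q hq s s' hs hs' h1

/-- the twelve root values are not `1` -/
theorem reg_ne (q : ℕ) (hq : 3 ≤ q) (lam : Kˣ) (hlam : orderOf lam = q ^ 2 + q + 1) :
    ∀ s < 12, chr s (lam ^ (1 + q)) (lam ^ (2 + q)) ≠ 1 := by
  intro s hs h
  rw [chr_lam, ← orderOf_dvd_iff_zpow_eq_one, hlam, cast_n] at h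
  exact E_ne q hq s hs h

theorem E8 (q : ℤ) : E q 8 = 1 := by
  have h0 : chevG2.cartan 0 8 = -1 := by decide
  have h1 : chevG2.cartan 1 8 = 1 := by decide
  unfold E; rw [h0, h1]; ring

theorem E7 (q : ℤ) : E q 7 = q := by
  have h0 : chevG2.cartan 0 7 = 2 := by decide
  have h1 : chevG2.cartan 1 7 = -1 := by decide
  unfold E; rw [h0, h1]; ring

theorem E2 (q : ℤ) : E q 2 = - q - 1 := by
  have h0 : chevG2.cartan 0 2 = -1 := by decide
  have h1 : chevG2.cartan 1 2 = 0 := by decide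
  unfold E; rw [h0, h1]; ring

theorem chr8 (c₀ c₁ : Kˣ) : chr 8 c₀ c₁ = c₀⁻¹ * c₁ := by
  have h0 : chevG2.cartan 0 8 = -1 := by decide
  have h1 : chevG2.cartan 1 8 = 1 := by decide
  unfold chr; rw [h0, h1]; simp

theorem chr7' (c₀ c₁ : Kˣ) : chr 7 c₀ c₁ = c₀ ^ 2 * c₁⁻¹ := by
  have h0 : chevG2.cartan 0 7 = 2 := by decide
  have h1 : chevG2.cartan 1 7 = -1 := by decide
  unfold chr; rw [h0, h1]; simp [zpow_ofNat]

theorem chr2 (c₀ c₁ : Kˣ) : chr 2 c₀ c₁ = c₀⁻¹ := by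
  have h0 : chevG2.cartan 0 2 = -1 := by decide
  have h1 : chevG2.cartan 1 2 = 0 := by decide
  unfold chr; rw [h0, h1]; simp

end

section
variable {F K : Type*} [Field F] [Fintype F] [Field K] [Fintype K] [Algebra F K]

/-- the Frobenius `x ↦ x ^ #F` of `K` -/
noncomputable def frob (F K : Type*) [Field F] [Fintype F] [Field K] [Algebra F K] : K →+* K :=
  (FiniteField.frobeniusAlgHom F K).toRingHom

theorem frob_apply (x : K) : frob F K x = x ^ Fintype.card F := rfl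

theorem map_frob_fixed (g : GL chevG2.Idx F) :
    ((Matrix.GeneralLinearGroup.map (algebraMap F K) g : GL chevG2.Idx K) : Matrix chevG2.Idx chevG2.Idx K).map
      (frob F K) = (Matrix.GeneralLinearGroup.map (algebraMap F K) g : GL chevG2.Idx K) := by
  ext i j
  rw [Matrix.map_apply, Matrix.GeneralLinearGroup.map_apply]
  exact (FiniteField.frobeniusAlgHom F K).commutes _

/-- the diagonal of `tor c₀ c₁` -/
noncomputable def dvec (c₀ c₁ : Kˣ) : chevG2.Idx → K :=
  Sum.elim (fun _ => (1 : K)) (fun s : Fin chevG2.nroots => ((chr s.val c₀ c₁ : Kˣ) : K))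

/-- one step of the Frobenius twist: if the Frobenius maps the value of the root `a` on the regular element to that of the
root `b`, it does the same for every element of the conjugate torus that is rational over `F` -/
theorem twist_step (c₀ c₁ : Kˣ)
    (hinj : ∀ s < 12, ∀ s' < 12, chr s c₀ c₁ = chr s' c₀ c₁ → s = s') (hne : ∀ s < 12, chr s c₀ c₁ ≠ 1)
    (g₀ : GL chevG2.Idx K) (s g : GL chevG2.Idx F)
    (hs : Matrix.GeneralLinearGroup.map (algebraMap F K) s * g₀ = g₀ * tor c₀ c₁)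
    (d₀ d₁ : Kˣ) (hg : Matrix.GeneralLinearGroup.map (algebraMap F K) g * g₀ = g₀ * tor d₀ d₁)
    (a b : ℕ) (ha : a < 12) (hb : b < 12) (hab : chr b c₀ c₁ = chr a c₀ c₁ ^ Fintype.card F) :
    chr b d₀ d₁ = chr a d₀ d₁ ^ Fintype.card F := by
  have hdet : IsUnit (g₀ : Matrix chevG2.Idx chevG2.Idx K).det := by
    have := Matrix.isUnits_det_units g₀
    exact this
  have hSd : ((Matrix.GeneralLinearGroup.map (algebraMap F K) s : GL chevG2.Idx K) : Matrix chevG2.Idx chevG2.Idx K) *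
      (g₀ : Matrix chevG2.Idx chevG2.Idx K) = (g₀ : Matrix chevG2.Idx chevG2.Idx K) * Matrix.diagonal (dvec c₀ c₁) := by
    rw [← Units.val_mul, hs, Units.val_mul, tor_val]; rfl
  have hTe : ((Matrix.GeneralLinearGroup.map (algebraMap F K) g : GL chevG2.Idx K) : Matrix chevG2.Idx chevG2.Idx K) *
      (g₀ : Matrix chevG2.Idx chevG2.Idx K) = (g₀ : Matrix chevG2.Idx chevG2.Idx K) * Matrix.diagonal (dvec d₀ d₁) := by
    rw [← Units.val_mul, hg, Units.val_mul, tor_val]; rfl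
  obtain ⟨i, hi1, hi2⟩ := frob_twist (frob F K) _ hdet _ _ (map_frob_fixed s) (map_frob_fixed g) _ _ hSd hTe
    (Sum.inr ⟨a, ha⟩)
  have ea : dvec c₀ c₁ (Sum.inr ⟨a, ha⟩) = ((chr a c₀ c₁ : Kˣ) : K) := rfl
  have ea' : dvec d₀ d₁ (Sum.inr ⟨a, ha⟩) = ((chr a d₀ d₁ : Kˣ) : K) := rfl
  rw [ea, frob_apply, ← Units.val_pow_eq_pow_val, ← hab] at hi1
  rw [ea', frob_apply, ← Units.val_pow_eq_pow_val] at hi2
  rcases i with i | i
  · exfalso
    have : ((1 : Kˣ) : K) = ((chr b c₀ c₁ : Kˣ) : K) := by rw [Units.val_one]; exact hi1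
    exact hne b hb (Units.ext this).symm
  · have e1 : dvec c₀ c₁ (Sum.inr i) = ((chr i.val c₀ c₁ : Kˣ) : K) := rfl
    rw [e1] at hi1
    have hib : i.val = b := hinj i.val i.2 b hb (Units.ext hi1)
    have e2 : dvec d₀ d₁ (Sum.inr i) = ((chr i.val d₀ d₁ : Kˣ) : K) := rfl
    rw [e2, hib] at hi2
    exact Units.ext hi2

/-- **the Frobenius twist**: an `F`-rational element of the conjugate torus is determined by a `(q²+q+1)`-th root of unity -/
theorem twist (q : ℕ) (hF : Fintype.card F = q) (hq : 3 ≤ q) (lam : Kˣ) (hlam : orderOf lam = q ^ 2 + q + 1)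
    (g₀ : GL chevG2.Idx K) (s g : GL chevG2.Idx F)
    (hs : Matrix.GeneralLinearGroup.map (algebraMap F K) s * g₀ = g₀ * tor (lam ^ (1 + q)) (lam ^ (2 + q)))
    (d₀ d₁ : Kˣ) (hg : Matrix.GeneralLinearGroup.map (algebraMap F K) g * g₀ = g₀ * tor d₀ d₁) :
    ∃ x : Kˣ, x ^ (q ^ 2 + q + 1) = 1 ∧ d₀ = x ^ (1 + q) ∧ d₁ = x ^ (2 + q) := by
  have hinj := reg_inj q hq lam hlam
  have hne := reg_ne q hq lam hlam
  have hl1 : lam ^ (q ^ 2 + q + 1) = 1 := by rw [← hlam]; exact pow_orderOf_eq_one lam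
  have hab1 : chr 7 (lam ^ (1 + q)) (lam ^ (2 + q)) = chr 8 (lam ^ (1 + q)) (lam ^ (2 + q)) ^ Fintype.card F := by
    rw [chr_lam, chr_lam, E7, E8, hF, zpow_one, zpow_natCast]
  have hab2 : chr 2 (lam ^ (1 + q)) (lam ^ (2 + q)) = chr 7 (lam ^ (1 + q)) (lam ^ (2 + q)) ^ Fintype.card F := by
    rw [chr_lam, chr_lam, E7, E2, hF, zpow_natCast, ← pow_mul]
    have h1 : lam ^ (q * q) * lam ^ (q + 1) = 1 := by
      rw [← pow_add, ← hl1]; congr 1; ring
    have h2 : lam ^ (-(q : ℤ) - 1) = (lam ^ (q + 1))⁻¹ := by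
      rw [← zpow_natCast, ← zpow_neg]; congr 1; push_cast; ring
    rw [h2]
    exact (eq_inv_of_mul_eq_one_left h1).symm
  have st1 := twist_step _ _ hinj hne g₀ s g hs d₀ d₁ hg 8 7 (by norm_num) (by norm_num) hab1
  have st2 := twist_step _ _ hinj hne g₀ s g hs d₀ d₁ hg 7 2 (by norm_num) (by norm_num) hab2
  rw [hF] at st1 st2
  rw [chr7', chr8] at st1
  rw [chr2, chr7'] at st2
  set x : Kˣ := d₀⁻¹ * d₁ with hx
  have hd0 : d₀ = x ^ (1 + q) := by
    rw [pow_add, pow_one, ← st1, hx]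
    have : d₀⁻¹ * d₁ * (d₀ ^ 2 * d₁⁻¹) = d₀ := by
      apply Units.ext
      push_cast
      field_simp
    exact this.symm
  have hd1 : d₁ = x ^ (2 + q) := by
    have : x ^ (2 + q) = x * x ^ (1 + q) := by rw [← pow_succ']; congr 1; ring
    rw [this, ← hd0, hx]
    apply Units.ext
    push_cast
    field_simp
  refine ⟨x, ?_, hd0, hd1⟩
  have h3 : x ^ (q ^ 2 + q + 1) = (x ^ q) ^ q * x ^ (1 + q) := by
    rw [← pow_mul, ← pow_add]; congr 1; ring
  rw [h3, ← hd0, ← st1, ← st2]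
  exact inv_mul_cancel d₀

theorem map_injective : Function.Injective (Matrix.GeneralLinearGroup.map (n := chevG2.Idx) (algebraMap F K)) := by
  intro a b h
  apply Units.ext
  ext i j
  have := congrArg (fun g : GL chevG2.Idx K => (g : Matrix chevG2.Idx chevG2.Idx K) i j) h
  simp only [Matrix.GeneralLinearGroup.map_apply] at this
  exact (algebraMap F K).injective this

/-- the centraliser of `s` in `G₂(F)` has at most `q² + q + 1` elements -/
theorem cent_bound (q : ℕ) (hF : Fintype.card F = q) (hq : 3 ≤ q) (lam : Kˣ) (hlam : orderOf lam = q ^ 2 + q + 1)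
    (g₀ : GL chevG2.Idx K) (hg₀ : g₀ ∈ chevG2.group K) (s : GL chevG2.Idx F)
    (hs : Matrix.GeneralLinearGroup.map (algebraMap F K) s * g₀ = g₀ * tor (lam ^ (1 + q)) (lam ^ (2 + q))) :
    Set.ncard {g : GL chevG2.Idx F | g ∈ chevG2.group F ∧ g * s = s * g} ≤ q ^ 2 + q + 1 := by
  classical
  set τ : GL chevG2.Idx K := tor (lam ^ (1 + q)) (lam ^ (2 + q)) with hτ
  set Cset : Set (GL chevG2.Idx F) := {g : GL chevG2.Idx F | g ∈ chevG2.group F ∧ g * s = s * g} with hC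
  let Θ : rootsOfUnity (q ^ 2 + q + 1) K → GL chevG2.Idx K :=
    fun x => g₀ * tor ((x : Kˣ) ^ (1 + q)) ((x : Kˣ) ^ (2 + q)) * g₀⁻¹
  have hsub : (Matrix.GeneralLinearGroup.map (algebraMap F K)) '' Cset ⊆ Θ '' Set.univ := by
    rintro _ ⟨g, ⟨hgG, hgs⟩, rfl⟩
    set gK := Matrix.GeneralLinearGroup.map (algebraMap F K) g with hgK
    set sK := Matrix.GeneralLinearGroup.map (algebraMap F K) s with hsK
    have hcomm : gK * sK = sK * gK := by
      rw [hgK, hsK, ← map_mul, ← map_mul, hgs]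
    have hkG : g₀⁻¹ * gK * g₀ ∈ chevG2.group K :=
      mul_mem (mul_mem (inv_mem hg₀) (map_mem_group _ g hgG)) hg₀
    have hs' : sK = g₀ * τ * g₀⁻¹ := by rw [← hs]; group
    have hkc : g₀⁻¹ * gK * g₀ * τ = τ * (g₀⁻¹ * gK * g₀) := by
      have e1 : g₀⁻¹ * gK * g₀ * τ = g₀⁻¹ * (gK * sK) * g₀ := by rw [hs']; group
      have e2 : τ * (g₀⁻¹ * gK * g₀) = g₀⁻¹ * (sK * gK) * g₀ := by rw [hs']; group
      rw [e1, e2, hcomm]
    have hkH := cent_regular _ _ (reg_inj q hq lam hlam) (reg_ne q hq lam hlam) _ hkG hkc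
    obtain ⟨d₀, d₁, hk⟩ := (mem_diagonal_iff _).mp hkH
    have hg' : gK * g₀ = g₀ * tor d₀ d₁ := by rw [← hk]; group
    obtain ⟨x, hx1, hx2, hx3⟩ := twist q hF hq lam hlam g₀ s g hs d₀ d₁ hg'
    refine ⟨⟨x, (mem_rootsOfUnity _ _).mpr hx1⟩, Set.mem_univ _, ?_⟩
    show g₀ * tor (x ^ (1 + q)) (x ^ (2 + q)) * g₀⁻¹ = gK
    rw [← hx2, ← hx3, ← hg']; group
  calc Set.ncard Cset = Set.ncard ((Matrix.GeneralLinearGroup.map (algebraMap F K)) '' Cset) :=
        (Set.ncard_image_of_injective _ map_injective).symm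
    _ ≤ Set.ncard (Θ '' Set.univ) := Set.ncard_le_ncard hsub (Set.toFinite _)
    _ ≤ Set.ncard (Set.univ : Set (rootsOfUnity (q ^ 2 + q + 1) K)) := Set.ncard_image_le (Set.toFinite _)
    _ = Nat.card (rootsOfUnity (q ^ 2 + q + 1) K) := Set.ncard_univ _
    _ ≤ q ^ 2 + q + 1 := card_rootsOfUnity K (q ^ 2 + q + 1)

omit [Fintype K] in
theorem tor_pow (c₀ c₁ : Kˣ) (m : ℕ) : tor c₀ c₁ ^ m = tor (c₀ ^ m) (c₁ ^ m) := by
  induction m with
  | zero => simp [tor_one]
  | succ m ih => rw [pow_succ, ih, tor_mul, pow_succ, pow_succ]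

/-- the order of `s` -/
theorem order_s (q : ℕ) (lam : Kˣ) (hlam : orderOf lam = q ^ 2 + q + 1)
    (g₀ : GL chevG2.Idx K) (s : GL chevG2.Idx F)
    (hs : Matrix.GeneralLinearGroup.map (algebraMap F K) s * g₀ = g₀ * tor (lam ^ (1 + q)) (lam ^ (2 + q))) :
    orderOf s = q ^ 2 + q + 1 := by
  rw [← orderOf_injective _ (map_injective (F := F) (K := K)) s]
  have hs' : Matrix.GeneralLinearGroup.map (algebraMap F K) s =
      (MulAut.conj g₀).toMonoidHom (tor (lam ^ (1 + q)) (lam ^ (2 + q))) := by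
    show _ = g₀ * _ * g₀⁻¹
    rw [← hs]; group
  rw [hs', orderOf_injective _ (MulAut.conj g₀).injective, ← hlam]
  rw [orderOf_eq_orderOf_iff]
  intro m
  rw [tor_pow]
  constructor
  · intro h
    rw [← tor_one] at h
    obtain ⟨h0, h1⟩ := tor_inj _ _ _ _ h
    have : lam ^ m = (lam ^ (2 + q)) ^ m * ((lam ^ (1 + q)) ^ m)⁻¹ := by
      rw [← pow_mul, ← pow_mul, eq_mul_inv_iff_mul_eq, ← pow_add]; congr 1; ring
    rw [this, h0, h1]; simp
  · intro h
    rw [← pow_mul, ← pow_mul, mul_comm (1 + q), mul_comm (2 + q), pow_mul, pow_mul, h, one_pow, one_pow, tor_one]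

end

section
variable {F : Type*} [Field F] [Fintype F]

/-- **S2371**: `G₂(q)`, `q ≥ 3`, has a self-centralizing cyclic subgroup of order `q² + q + 1` -/
theorem main (q : ℕ) (hF : Fintype.card F = q) (hq : 3 ≤ q) :
    ∃ H : Subgroup ↥(chevG2.group F), IsCyclic ↥H ∧ Nat.card ↥H = q ^ 2 + q + 1 ∧
      Subgroup.centralizer (H : Set ↥(chevG2.group F)) = H := by
  classical
  obtain ⟨K, _, _, _, hK⟩ := exists_cubic_ext F
  rw [hF] at hK
  obtain ⟨C, P, lam, hlam, hCP⟩ := exists_singer (F := F) (K := K) q (by omega) hF hK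
  have hl1 : lam ^ (q ^ 2 + q + 1) = 1 := by rw [← hlam]; exact pow_orderOf_eq_one lam
  -- the diagonal matrix
  have hinv : (lam * lam ^ q)⁻¹ = lam ^ q ^ 2 := by
    rw [inv_eq_iff_eq_inv, eq_inv_iff_mul_eq_one]
    have : lam * lam ^ q * lam ^ q ^ 2 = lam ^ (q ^ 2 + q + 1) := by
      rw [pow_add, pow_add, pow_one]
      apply Units.ext
      push_cast
      ring
    rw [this, hl1]
  have hD : ((dg lam (lam ^ q) : SL3 K) : Matrix (Fin 3) (Fin 3) K) =
      Matrix.diagonal ![(lam : K), (lam : K) ^ q, (lam : K) ^ q ^ 2] := by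
    show Matrix.diagonal _ = _
    rw [hinv, Units.val_pow_eq_pow_val, Units.val_pow_eq_pow_val]
  have hCP' : Matrix.SpecialLinearGroup.map (algebraMap F K) C * P = P * dg lam (lam ^ q) := by
    apply Subtype.ext
    rw [Matrix.SpecialLinearGroup.coe_mul, Matrix.SpecialLinearGroup.coe_mul, hCP, hD]
  set s : GL chevG2.Idx F := rho F C with hs_def
  set g₀ : GL chevG2.Idx K := rho K P with hg₀_def
  have hsG : s ∈ chevG2.group F := rho_mem_group C
  have hg₀ : g₀ ∈ chevG2.group K := rho_mem_group P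
  have hs : Matrix.GeneralLinearGroup.map (algebraMap F K) s * g₀ = g₀ * tor (lam ^ (1 + q)) (lam ^ (2 + q)) := by
    rw [hs_def, ← rho_map, hg₀_def, ← map_mul, hCP', map_mul, rho_dg]
    congr 2
    · rw [pow_add, pow_one]
    · rw [pow_add]
  have hord : orderOf s = q ^ 2 + q + 1 := order_s q lam hlam g₀ s hs
  have hbound := cent_bound q hF hq lam hlam g₀ hg₀ s hs
  set s' : ↥(chevG2.group F) := ⟨s, hsG⟩ with hs'
  refine ⟨Subgroup.zpowers s', inferInstance, ?_, ?_⟩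
  · rw [Nat.card_zpowers, ← hord]
    exact (Subgroup.orderOf_mk s hsG).symm ▸ rfl
  · have hle : Subgroup.zpowers s' ≤ Subgroup.centralizer (Subgroup.zpowers s' : Set ↥(chevG2.group F)) := by
      intro x hx
      rw [Subgroup.mem_centralizer_iff]
      intro y hy
      obtain ⟨a, rfl⟩ := Subgroup.mem_zpowers_iff.mp hx
      obtain ⟨b, rfl⟩ := Subgroup.mem_zpowers_iff.mp hy
      exact (Commute.zpow_zpow_self s' b a).eq
    have hcard : Nat.card ↥(Subgroup.centralizer (Subgroup.zpowers s' : Set ↥(chevG2.group F))) ≤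
        Nat.card ↥(Subgroup.zpowers s') := by
      rw [Nat.card_zpowers, show orderOf s' = q ^ 2 + q + 1 from by
        rw [← hord]; exact Subgroup.orderOf_mk s hsG]
      refine le_trans ?_ hbound
      rw [← Nat.card_coe_set_eq]
      refine Nat.card_le_card_of_injective
        (fun z => ⟨z.1.1, z.1.2, ?_⟩) ?_
      · have hz := (Subgroup.mem_centralizer_iff.mp z.2) s' (Subgroup.mem_zpowers s')
        have := congrArg Subtype.val hz
        simp only [Subgroup.coe_mul] at this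
        exact this.symm
      · intro z z' h
        dsimp only at h
        have : z.1.1 = z'.1.1 := Subtype.mk.inj h
        exact Subtype.ext (Subtype.ext this)
    exact (Subgroup.eq_of_le_of_card_ge hle hcard).symm

end

end Cfsg.Agent.Helper40.G2Tor
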